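import Cfsg.Agent.Lib.Invol.SylowAux

set_option autoImplicit false

/-! # Groups with Klein four Sylow 2-subgroups -/

namespace Cfsg.Agent.Lib.Invol

variable {G : Type*} [Group G]

theorem eq_of_isConj_of_normal_complement {P N : Subgroup G} [N.Normal]
    (hc : N.IsComplement' P) (hP : ∀ a ∈ P, ∀ b ∈ P, a * b = b * a) {x y : G} (hx : x ∈ P)
    (hy : y ∈ P) (h : IsConj x y) : x = y := by
  obtain ⟨c, rfl⟩ := isConj_iff.mp h
  obtain ⟨⟨⟨n, hn⟩, ⟨d, hd⟩⟩, rfl⟩ := hc.2 c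
  simp only at hy ⊢
  have e : n * d * x * (n * d)⁻¹ = n * x * n⁻¹ := by
    calc n * d * x * (n * d)⁻¹ = n * (d * x) * d⁻¹ * n⁻¹ := by group
      _ = n * x * n⁻¹ := by rw [hP d hd x hx]; group
  rw [e] at hy ⊢
  have h1 : n * x * n⁻¹ * x⁻¹ ∈ N ⊓ P := by
    refine ⟨?_, P.mul_mem hy (P.inv_mem hx)⟩
    have := N.mul_mem hn ((inferInstance : N.Normal).conj_mem _ (N.inv_mem hn) x)
    simpa [mul_assoc] using this
  rw [hc.disjoint.eq_bot, Subgroup.mem_bot, mul_inv_eq_one] at h1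
  exact h1.symm

theorem klein_comm {P : Subgroup G} (hP : IsKleinFour P) : ∀ a ∈ P, ∀ b ∈ P, a * b = b * a :=
  fun a ha b hb =>
    congrArg Subtype.val (IsKleinFour.isMulCommutative.is_comm.comm (⟨a, ha⟩ : P) ⟨b, hb⟩)

theorem klein_mul_self {P : Subgroup G} (hP : IsKleinFour P) : ∀ a ∈ P, a * a = 1 :=
  fun a ha => congrArg Subtype.val (IsKleinFour.mul_self (⟨a, ha⟩ : P))

theorem klein_eq_mul {P : Subgroup G} (hP : IsKleinFour P) {x y z : G} (hx : x ∈ P) (hy : y ∈ P)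
    (hz : z ∈ P) (hx1 : x ≠ 1) (hy1 : y ≠ 1) (hxy : x ≠ y) (hz1 : z ≠ 1) (hzx : z ≠ x)
    (hzy : z ≠ y) : z = x * y :=
  congrArg Subtype.val (IsKleinFour.eq_mul_of_ne_all (x := (⟨x, hx⟩ : P)) (y := ⟨y, hy⟩)
    (z := ⟨z, hz⟩) (by simpa using hx1) (by simpa using hy1) (by simpa using hxy)
    (by simpa using hz1) (by simpa using hzx) (by simpa using hzy))

theorem commute_of_commute_sq_of_normalizer [Finite G] (P : Sylow 2 G)
    (hP : ∀ a ∈ (P : Subgroup G), ∀ b ∈ (P : Subgroup G), a * b = b * a) {n a : G}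
    (hn : n ∈ Subgroup.normalizer (P : Set G)) (ha : a ∈ (P : Subgroup G))
    (h : Commute (n ^ 2) a) : Commute n a := by
  have : ((P : Subgroup G).subgroupOf (Subgroup.normalizer (P : Set G))).Normal :=
    Subgroup.normal_in_normalizer (H := (P : Subgroup G))
  have h1 := ((P : Subgroup G).subgroupOf (Subgroup.normalizer (P : Set G))).pow_index_mem ⟨n, hn⟩
  have h2 : Odd ((P : Subgroup G).subgroupOf (Subgroup.normalizer (P : Set G))).index := by
    have h3 : Odd (P : Subgroup G).index := by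
      rw [← Nat.not_even_iff_odd, even_iff_two_dvd]
      exact P.not_dvd_index
    exact h3.of_dvd_nat (Subgroup.relIndex_dvd_index_of_le Subgroup.le_normalizer)
  obtain ⟨k, hk⟩ := h2
  rw [hk, Subgroup.mem_subgroupOf] at h1
  have h4 : Commute (n ^ (2 * k + 1)) a := hP _ h1 a ha
  have h5 : n = ((n ^ 2) ^ k)⁻¹ * n ^ (2 * k + 1) := by
    rw [← pow_mul]; group
  rw [h5]
  exact ((h.pow_left k).inv_left).mul_left h4

theorem isConj_of_klein_sylow [Finite G] (P : Sylow 2 G) (hP : IsKleinFour (P : Subgroup G))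
    (hN : ¬ Subgroup.normalizer (P : Set G) ≤ Subgroup.centralizer (P : Set G)) {a b : G}
    (ha : a ∈ (P : Subgroup G)) (hb : b ∈ (P : Subgroup G)) (ha1 : a ≠ 1) (hb1 : b ≠ 1) :
    IsConj a b := by
  obtain ⟨n, hn, hnC⟩ := SetLike.not_le_iff_exists.mp hN
  have hc : ∀ x ∈ (P : Subgroup G), n * x * n⁻¹ ∈ (P : Subgroup G) := fun x hx => (hn x).mp hx
  have hinj : ∀ x y : G, n * x * n⁻¹ = n * y * n⁻¹ → x = y := fun x y h => by simpa using h
  have hne1 : ∀ x : G, x ≠ 1 → n * x * n⁻¹ ≠ 1 := fun x hx h => hx (by simpa using h)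
  have hsq : ∀ x ∈ (P : Subgroup G), n * (n * x * n⁻¹) * n⁻¹ = x → n * x * n⁻¹ = x := by
    intro x hx h
    have := commute_of_commute_sq_of_normalizer P (klein_comm hP) hn hx (by
      rw [Commute, SemiconjBy, ← mul_inv_eq_iff_eq_mul]
      nth_rewrite 2 [← h]
      rw [pow_two]; group)
    rw [this.eq, mul_inv_cancel_right]
  have hfix : ∀ x ∈ (P : Subgroup G), x ≠ 1 → n * x * n⁻¹ ≠ x := by
    intro x hx hx1 h
    apply hnC
    intro y hy
    symm
    rw [← mul_inv_eq_iff_eq_mul]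
    apply hsq y hy
    by_cases hy1 : y = 1
    · simp [hy1]
    by_cases hyx : y = x
    · rw [hyx, h, h]
    by_cases hy2 : n * y * n⁻¹ = y
    · rw [hy2, hy2]
    have e := klein_eq_mul hP hx hy (hc y hy) hx1 hy1 (Ne.symm hyx) (hne1 y hy1)
      (fun e => hyx (hinj _ _ (e.trans h.symm))) hy2
    calc n * (n * y * n⁻¹) * n⁻¹ = (n * x * n⁻¹) * (n * y * n⁻¹) := by
          nth_rewrite 1 [e]; group
      _ = y := by rw [h, e, ← mul_assoc, klein_mul_self hP x hx, one_mul]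
  by_cases hab : a = b
  · rw [hab]
  by_cases h1 : n * a * n⁻¹ = b
  · exact isConj_iff.mpr ⟨n, h1⟩
  have e1 := klein_eq_mul hP ha hb (hc a ha) ha1 hb1 hab (hne1 a ha1) (hfix a ha ha1) h1
  by_cases h2 : n * (n * a * n⁻¹) * n⁻¹ = b
  · exact isConj_iff.mpr ⟨n * n, by rw [← h2]; group⟩
  have e2 := klein_eq_mul hP ha hb (hc _ (hc a ha)) ha1 hb1 hab (hne1 _ (hne1 a ha1))
    (fun h => hfix a ha ha1 (hsq a ha h)) h2
  exact absurd (e2.trans e1.symm) (hfix _ (hc a ha) (hne1 a ha1))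

theorem card_classes_eq_one_of_klein [Finite G] (P : Sylow 2 G) (hP : IsKleinFour (P : Subgroup G))
    (hN : ¬ Subgroup.normalizer (P : Set G) ≤ Subgroup.centralizer (P : Set G)) :
    Nat.card {C : ConjClasses G // ∃ t : G, orderOf t = 2 ∧ ConjClasses.mk t = C} = 1 := by
  obtain ⟨a, haP, ha⟩ := exists_involution_mem_of_even (H := (P : Subgroup G))
    (by rw [hP.card_four]; decide)
  rw [Nat.card_eq_one_iff_exists]
  refine ⟨⟨_, a, ha, rfl⟩, ?_⟩
  rintro ⟨_, t, ht, rfl⟩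
  obtain ⟨g, hg⟩ := exists_conj_involution_mem_sylow P ht
  apply Subtype.ext
  exact ConjClasses.mk_eq_mk_iff_isConj.mpr ((isConj_iff.mpr ⟨g, rfl⟩).trans
    (isConj_of_klein_sylow P hP hN hg haP
      (ne_one_of_orderOf_two (by rw [orderOf_conj', ht])) (ne_one_of_orderOf_two ha)))

theorem card_classes_eq_three_of_klein [Finite G] (P : Sylow 2 G)
    (hP : IsKleinFour (P : Subgroup G)) {N : Subgroup G} [N.Normal]
    (hc : N.IsComplement' (P : Subgroup G)) :
    Nat.card {C : ConjClasses G // ∃ t : G, orderOf t = 2 ∧ ConjClasses.mk t = C} = 3 := by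
  classical
  have h1 : Nat.card {x : (P : Subgroup G) // x ≠ 1} = 3 := by
    have := Fintype.ofFinite (P : Subgroup G)
    rw [Nat.card_eq_fintype_card, Fintype.card_subtype_compl, ← Nat.card_eq_fintype_card,
      hP.card_four]
    simp
  rw [← h1]
  symm
  refine Nat.card_congr (Equiv.ofBijective (fun x => ⟨ConjClasses.mk x.1.1, x.1.1,
    orderOf_two_of (klein_mul_self hP _ x.1.2) (by simpa using x.2), rfl⟩) ⟨?_, ?_⟩)
  · intro x y h
    exact Subtype.ext (Subtype.ext (eq_of_isConj_of_normal_complement hc (klein_comm hP) x.1.2 y.1.2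
      (ConjClasses.mk_eq_mk_iff_isConj.mp (congrArg Subtype.val h))))
  · rintro ⟨_, t, ht, rfl⟩
    obtain ⟨g, hg⟩ := exists_conj_involution_mem_sylow P ht
    refine ⟨⟨⟨_, hg⟩, by simpa using ne_one_of_orderOf_two ht⟩, Subtype.ext ?_⟩
    exact ConjClasses.mk_eq_mk_iff_isConj.mpr (isConj_iff.mpr ⟨g, rfl⟩).symm

end Cfsg.Agent.Lib.Invol
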