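import Cfsg.Agent.Lib.Invol.ThreeTransp

set_option autoImplicit false

/-! # The Coxeter presentation of the symmetric group -/

namespace Cfsg.Agent.Lib.Invol

variable {W : Type*} [Group W]

/-- The word `s (j+m-1) * ⋯ * s j`. -/
def coxWord (s : ℕ → W) (j : ℕ) : ℕ → W
  | 0 => 1
  | m + 1 => s (j + m) * coxWord s j m

theorem coxWord_zero (s : ℕ → W) (j : ℕ) : coxWord s j 0 = 1 := rfl

theorem coxWord_succ (s : ℕ → W) (j m : ℕ) : coxWord s j (m + 1) = s (j + m) * coxWord s j m := rfl

theorem coxWord_succ' (s : ℕ → W) (j m : ℕ) :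
    coxWord s j (m + 1) = coxWord s (j + 1) m * s j := by
  induction m with
  | zero => simp [coxWord_succ, coxWord_zero]
  | succ m ih =>
    rw [coxWord_succ, ih, coxWord_succ, mul_assoc, show j + 1 + m = j + (m + 1) by ring]

/-- The relations of type `A`. -/
structure CoxRel (s : ℕ → W) (n : ℕ) : Prop where
  sq : ∀ i, i < n → s i * s i = 1
  comm : ∀ i j, i + 1 < j → j < n → Commute (s i) (s j)
  braid : ∀ i, i + 1 < n → s i * s (i + 1) * s i = s (i + 1) * s i * s (i + 1)

variable {s : ℕ → W} {n : ℕ}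

theorem CoxRel.commute_low (h : CoxRel s n) {i j m : ℕ} (hij : i + 1 < j) (hm : j + m ≤ n) :
    Commute (s i) (coxWord s j m) := by
  induction m with
  | zero => exact Commute.one_right _
  | succ m ih => exact (h.comm i (j + m) (by omega) (by omega)).mul_right (ih (by omega))

theorem CoxRel.commute_high (h : CoxRel s n) {i j m : ℕ} (hij : j + m < i) (hm : i < n) :
    Commute (s i) (coxWord s j m) := by
  induction m with
  | zero => exact Commute.one_right _
  | succ m ih => exact (h.comm (j + m) i (by omega) hm).symm.mul_right (ih (by omega))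

theorem CoxRel.word_mul (h : CoxRel s n) {i j m : ℕ} (hij : j ≤ i) (him : i + 1 < j + m)
    (hm : j + m ≤ n) : coxWord s j m * s (i + 1) = s i * coxWord s j m := by
  induction m with
  | zero => omega
  | succ m ih =>
    by_cases h1 : i + 1 < j + m
    · rw [coxWord_succ, mul_assoc, ih h1 (by omega), ← mul_assoc,
        ← (h.comm i (j + m) h1 (by omega)).eq, mul_assoc]
    · obtain ⟨m, rfl⟩ : ∃ m', m = m' + 1 := ⟨m - 1, by omega⟩
      have e1 : j + (m + 1) = i + 1 := by omega
      have e2 : j + m = i := by omega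
      rw [coxWord_succ, coxWord_succ, e1, e2, mul_assoc, mul_assoc,
        ← (h.commute_high (i := i + 1) (j := j) (m := m) (by omega) (by omega)).eq,
        ← mul_assoc, ← mul_assoc, ← h.braid i (by omega)]
      simp only [mul_assoc]

theorem CoxRel.exists_decomp (h : CoxRel s n) {k : ℕ} (hk : k + 1 ≤ n) {w : W}
    (hw : w ∈ Subgroup.closure (s '' {i | i < k + 1})) :
    ∃ j, j ≤ k + 1 ∧ ∃ x ∈ Subgroup.closure (s '' {i | i < k}), w = x * coxWord s j (k + 1 - j) := by
  have step : ∀ w : W, (∃ j, j ≤ k + 1 ∧ ∃ x ∈ Subgroup.closure (s '' {i | i < k}),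
      w = x * coxWord s j (k + 1 - j)) → ∀ i, i < k + 1 → ∃ j, j ≤ k + 1 ∧
      ∃ x ∈ Subgroup.closure (s '' {i | i < k}), w * s i = x * coxWord s j (k + 1 - j) := by
    rintro _ ⟨j, hj, x, hx, rfl⟩ i hi
    rcases lt_trichotomy (i + 1) j with h1 | h1 | h1
    · refine ⟨j, hj, x * s i, Subgroup.mul_mem _ hx
        (Subgroup.subset_closure ⟨i, by simp; omega, rfl⟩), ?_⟩
      rw [mul_assoc, mul_assoc, (h.commute_low h1 (by omega)).eq]
    · subst h1
      refine ⟨i, by omega, x, hx, ?_⟩
      rw [show k + 1 - i = (k + 1 - (i + 1)) + 1 by omega, coxWord_succ', mul_assoc]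
    · by_cases h2 : i = j
      · subst h2
        refine ⟨i + 1, by omega, x, hx, ?_⟩
        rw [show k + 1 - i = (k + 1 - (i + 1)) + 1 by omega, coxWord_succ', mul_assoc, mul_assoc,
          h.sq i (by omega), mul_one]
      · obtain ⟨i, rfl⟩ : ∃ i', i = i' + 1 := ⟨i - 1, by omega⟩
        refine ⟨j, hj, x * s i, Subgroup.mul_mem _ hx
          (Subgroup.subset_closure ⟨i, by simp; omega, rfl⟩), ?_⟩
        rw [mul_assoc, mul_assoc, h.word_mul (by omega) (by omega) (by omega)]
  induction hw using Subgroup.closure_induction_right with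
  | one => exact ⟨k + 1, le_rfl, 1, Subgroup.one_mem _, by simp [coxWord_zero]⟩
  | mul_right x _ y hy ih =>
    obtain ⟨i, hi, rfl⟩ := hy
    exact step x ih i hi
  | mul_inv_cancel x _ y hy ih =>
    obtain ⟨i, hi, rfl⟩ := hy
    rw [inv_eq_of_mul_eq_one_right (h.sq i (lt_of_lt_of_le hi hk))]
    exact step x ih i hi

theorem CoxRel.finite_card_le (h : CoxRel s n) {k : ℕ} (hk : k ≤ n) :
    Finite (Subgroup.closure (s '' {i | i < k})) ∧
      Nat.card (Subgroup.closure (s '' {i | i < k})) ≤ (k + 1).factorial := by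
  induction k with
  | zero =>
    have : Subgroup.closure (s '' {i | i < 0}) = ⊥ := by simp
    rw [this]
    exact ⟨inferInstance, by simp⟩
  | succ k ih =>
    obtain ⟨h1, h2⟩ := ih (by omega)
    have hw : ∀ j m, j + m ≤ k + 1 → coxWord s j m ∈ Subgroup.closure (s '' {i | i < k + 1}) := by
      intro j m hjm
      induction m with
      | zero => exact Subgroup.one_mem _
      | succ m ihm =>
        exact Subgroup.mul_mem _ (Subgroup.subset_closure ⟨j + m, by simp; omega, rfl⟩)
          (ihm (by omega))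
    let f : Fin (k + 2) × Subgroup.closure (s '' {i | i < k}) →
        Subgroup.closure (s '' {i | i < k + 1}) := fun p =>
      ⟨p.2.1 * coxWord s p.1 (k + 1 - p.1), Subgroup.mul_mem _
        (Subgroup.closure_mono (Set.image_mono fun i hi => by simp at *; omega) p.2.2)
        (hw _ _ (by omega))⟩
    have hf : Function.Surjective f := by
      rintro ⟨w, hw⟩
      obtain ⟨j, hj, x, hx, rfl⟩ := h.exists_decomp hk hw
      exact ⟨(⟨j, by omega⟩, ⟨x, hx⟩), rfl⟩
    refine ⟨Finite.of_surjective f hf, (Nat.card_le_card_of_surjective f hf).trans ?_⟩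
    rw [Nat.card_prod, Nat.card_eq_fintype_card (α := Fin _), Fintype.card_fin,
      Nat.factorial_succ (k + 1)]
    exact Nat.mul_le_mul_left _ h2

theorem isLiftable_swap (n : ℕ) : CoxeterMatrix.IsLiftable (CoxeterMatrix.A n)
    (fun i : Fin n => Equiv.swap i.castSucc i.succ) := by
  intro i j
  have h1 : ∀ i : Fin n, i.castSucc ≠ i.succ := fun i => (Fin.castSucc_lt_succ (i := i)).ne
  simp only [CoxeterMatrix.A, Matrix.of_apply]
  split_ifs with h2 h3
  · subst h2
    simp
  · have key : ∀ a b c : Fin (n + 1), a ≠ b → a ≠ c → b ≠ c →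
        (Equiv.swap a b * Equiv.swap a c) ^ 3 = 1 := fun a b c x y z => by
      rw [← (Equiv.Perm.isThreeCycle_swap_mul_swap_same x y z).orderOf, pow_orderOf_eq_one]
    rcases h3 with h3 | h3
    · have e : j.succ = i.castSucc := Fin.ext h3
      rw [Equiv.swap_comm j.castSucc, e]
      refine key _ _ _ (h1 i) (e ▸ (h1 j).symm) ?_
      intro h; simp [Fin.ext_iff] at h; omega
    · have e : i.succ = j.castSucc := Fin.ext h3
      rw [Equiv.swap_comm i.castSucc, e]
      refine key _ _ _ (e ▸ (h1 i).symm) (h1 j) ?_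
      intro h; simp [Fin.ext_iff] at h; omega
  · have := (Equiv.Perm.disjoint_swap_swap (x := i.castSucc) (y := i.succ) (z := j.castSucc)
      (t := j.succ) (by
        simp [Fin.ext_iff] at *
        omega)).commute
    rw [this.mul_pow]
    simp [pow_two]

theorem finite_card_le_of_coxeterSystem {n : ℕ} (cs : CoxeterSystem (CoxeterMatrix.A n) W) :
    Finite W ∧ Nat.card W ≤ (n + 1).factorial := by
  let s : ℕ → W := fun i => if h : i < n then cs.simple ⟨i, h⟩ else 1
  have hs : CoxRel s n := by
    refine ⟨fun i hi => ?_, fun i j hij hj => ?_, fun i hi => ?_⟩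
    · simp [s, hi]
    · have hi : i < n := by omega
      have := cs.simple_mul_simple_pow ⟨i, hi⟩ ⟨j, hj⟩
      rw [show (CoxeterMatrix.A n) ⟨i, hi⟩ ⟨j, hj⟩ = 2 by
        simp only [CoxeterMatrix.A, Matrix.of_apply, Fin.ext_iff]
        rw [if_neg (by omega), if_neg (by omega)]] at this
      simp only [s, hi, hj, dif_pos]
      exact commute_of_mul_sq_eq_one (by simp) (by simp) this
    · have hi' : i < n := by omega
      have := cs.simple_mul_simple_pow ⟨i, hi'⟩ ⟨i + 1, hi⟩
      rw [show (CoxeterMatrix.A n) ⟨i, hi'⟩ ⟨i + 1, hi⟩ = 3 by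
        simp only [CoxeterMatrix.A, Matrix.of_apply, Fin.ext_iff]
        rw [if_neg (by omega), if_pos (by simp)]] at this
      simp only [s, hi, hi', dif_pos]
      exact braid_of_mul_cube_eq_one (by simp) (by simp) this
  have h1 : Subgroup.closure (s '' {i | i < n}) = ⊤ := by
    rw [eq_top_iff, ← cs.subgroup_closure_range_simple]
    apply Subgroup.closure_mono
    rintro _ ⟨i, rfl⟩
    exact ⟨i, i.2, by simp [s]⟩
  have := hs.finite_card_le le_rfl
  rw [h1, Subgroup.card_top] at this
  have h2 := this.1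
  exact ⟨Finite.of_equiv _ Subgroup.topEquiv.toEquiv, this.2⟩

theorem exists_coxeterSystem_perm (n : ℕ) :
    ∃ cs : CoxeterSystem (CoxeterMatrix.A n) (Equiv.Perm (Fin (n + 1))),
      ∀ i : Fin n, cs.simple i = Equiv.swap i.castSucc i.succ := by
  let c := (CoxeterMatrix.A n).toCoxeterSystem
  let φ := c.lift ⟨_, isLiftable_swap n⟩
  have hφ : ∀ i, φ (c.simple i) = Equiv.swap i.castSucc i.succ :=
    c.lift_apply_simple (isLiftable_swap n)
  obtain ⟨h1, h2⟩ := finite_card_le_of_coxeterSystem c
  have hsurj : Function.Surjective φ := by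
    rw [← MonoidHom.range_eq_top, eq_top_iff,
      ← Subgroup.closure_eq_top_of_mclosure_eq_top (Equiv.Perm.mclosure_swap_castSucc_succ n),
      Subgroup.closure_le]
    rintro _ ⟨i, rfl⟩
    exact ⟨_, hφ i⟩
  have hbij : Function.Bijective φ := hsurj.bijective_of_nat_card_le (by
    rw [Nat.card_eq_fintype_card (α := Equiv.Perm _), Fintype.card_perm, Fintype.card_fin]
    exact h2)
  exact ⟨c.map (MulEquiv.ofBijective φ hbij), fun i => hφ i⟩

/-- Universal property of the symmetric group. -/
theorem exists_hom_perm_of_coxRel {s : ℕ → W} {n : ℕ} (h : CoxRel s n) :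
    ∃ φ : Equiv.Perm (Fin (n + 1)) →* W, ∀ i : Fin n, φ (Equiv.swap i.castSucc i.succ) = s i := by
  obtain ⟨cs, hcs⟩ := exists_coxeterSystem_perm n
  have hl : CoxeterMatrix.IsLiftable (CoxeterMatrix.A n) (fun i : Fin n => s i) := by
    intro i j
    have key : ∀ i, i + 1 < n → (s i * s (i + 1)) ^ 3 = 1 := fun i hi => by
      calc (s i * s (i + 1)) ^ 3 = (s i * s (i + 1) * s i) * (s (i + 1) * s i * s (i + 1)) := by
            rw [pow_succ, pow_two]; simp only [mul_assoc]
        _ = s i * (s (i + 1) * (s i * s i) * s (i + 1)) * s i := by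
            rw [← h.braid i hi]; simp only [mul_assoc]
        _ = 1 := by rw [h.sq i (by omega), mul_one, h.sq _ hi, mul_one, h.sq i (by omega)]
    simp only [CoxeterMatrix.A, Matrix.of_apply]
    split_ifs with h2 h3
    · subst h2
      simpa using h.sq i i.2
    · rcases h3 with h3 | h3
      · have := key j (h3 ▸ i.2)
        rw [h3] at this
        have e : s i * s j = (s j)⁻¹ * (s j * s i) * (s j)⁻¹⁻¹ := by group
        rw [e, conj_pow, this]
        simp
      · have := key i (h3 ▸ j.2)
        rwa [h3] at this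
    · have hc : Commute (s i) (s j) := by
        simp only [Fin.ext_iff, not_or] at h2 h3
        rcases lt_or_gt_of_ne h2 with h4 | h4
        · exact h.comm i j (by omega) j.2
        · exact (h.comm j i (by omega) i.2).symm
      rw [hc.mul_pow, pow_two, pow_two, h.sq i i.2, h.sq j j.2, one_mul]
  exact ⟨cs.lift ⟨_, hl⟩, fun i => by rw [← hcs, cs.lift_apply_simple hl]⟩

end Cfsg.Agent.Lib.Invol
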